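import Groth.Agent.DiscExtLib.Glue
import Groth.Agent.RpushLib.AdjIso

/-!
# Gluing modules given on the members of an open cover, along restriction maps to finer members
-/

set_option autoImplicit false
universe u
open CategoryTheory CategoryTheory.Limits AlgebraicGeometry TopologicalSpace Opposite

noncomputable section

namespace ModGlueLib

variable {X : Scheme.{u}}

/-- restriction of sections -/
abbrev rs (M : X.Modules) {W V : X.Opens} (h : W ≤ V) (a : Γ(M, V)) : Γ(M, W) :=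
  M.presheaf.map (homOfLE h).op a

theorem rs_rs (M : X.Modules) {W V U : X.Opens} (h : W ≤ V) (h' : V ≤ U) (a : Γ(M, U)) :
    rs M h (rs M h' a) = rs M (h.trans h') a :=
  QCohLib.map_map' M _ _ a

theorem app_rs {M N : X.Modules} (φ : M ⟶ N) {W V : X.Opens} (h : W ≤ V) (a : Γ(M, V)) :
    φ.app W (rs M h a) = rs N h (φ.app V a) :=
  QCohLib.app_map φ _ a

theorem rs_zero (M : X.Modules) {W V : X.Opens} (h : W ≤ V) : rs M h (0 : Γ(M, V)) = 0 := map_zero _

theorem eq_of_locally {M : X.Modules} {V : X.Opens} (a b : Γ(M, V))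
    (h : ∀ x ∈ V, ∃ (W : X.Opens) (hle : W ≤ V), x ∈ W ∧ rs M hle a = rs M hle b) : a = b := by
  choose W hle hxW hW using fun x : V => h x.1 x.2
  exact TopCat.Sheaf.eq_of_locally_eq' ((QCohLib.toAbF X).obj M : TopCat.Sheaf AddCommGrpCat _) W V
    (fun x => homOfLE (hle x)) (fun x hx => Opens.mem_iSup.mpr ⟨⟨x, hx⟩, hxW ⟨x, hx⟩⟩) a b hW

theorem exists_glue {M : X.Modules} {V : X.Opens} {κ : Type u} (W : κ → X.Opens) (hle : ∀ k, W k ≤ V)
    (hcov : ∀ x ∈ V, ∃ k, x ∈ W k) (a : ∀ k, Γ(M, W k))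
    (h : ∀ k l, rs M (inf_le_left : W k ⊓ W l ≤ W k) (a k) = rs M (inf_le_right : W k ⊓ W l ≤ W l) (a l)) :
    ∃ g : Γ(M, V), ∀ k, rs M (hle k) g = a k := by
  obtain ⟨g, hg, -⟩ := TopCat.Sheaf.existsUnique_gluing'
    ((QCohLib.toAbF X).obj M : TopCat.Sheaf AddCommGrpCat _) W V (fun k => homOfLE (hle k))
    (fun x hx => Opens.mem_iSup.mpr (hcov x hx)) a (fun k l => h k l)
  exact ⟨g, hg⟩

/-- A morphism of modules into a submodule given by a local condition. -/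
def liftHom {F G : X.Modules} (S : QCohLib.LocSub F) (φ : G ⟶ F) (h : ∀ V a, S.mem V (φ.app V a)) :
    G ⟶ S.toModules :=
  ⟨PresheafOfModules.homMk (M₁ := G.val) (M₂ := S.pmod)
    { app := fun V => AddCommGrpCat.ofHom (AddMonoidHom.mk'
        (fun a => (⟨φ.app V.unop a, h V.unop a⟩ : S.sub V.unop))
        fun a b => Subtype.ext (map_add (φ.app V.unop).hom a b))
      naturality := fun {U V} i => ConcreteCategory.hom_ext _ _ fun a => Subtype.ext
        (QCohLib.app_map φ i.unop a) }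
    fun V r a => Subtype.ext (QCohLib.app_smul φ V.unop r a)⟩

theorem ι_liftHom {F G : X.Modules} (S : QCohLib.LocSub F) (φ : G ⟶ F) (h : ∀ V a, S.mem V (φ.app V a)) :
    liftHom S φ h ≫ S.ι = φ :=
  Scheme.Modules.hom_ext _ _ fun _ => ConcreteCategory.hom_ext _ _ fun _ => rfl

variable (X) in
/-- Gluing data: modules `T i` supported on the opens `V i`, compared along a refinement relation `R`. -/
structure Datum where
  J : Type u
  V : J → X.Opens
  T : J → X.Modules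
  R : J → J → Prop
  δ : ∀ {i j}, R i j → (T i ⟶ T j)
  trans : ∀ {i j k}, R i j → R j k → R i k
  le : ∀ {i j}, R i j → V j ≤ V i
  δ_comp : ∀ {i j k} (a : R i j) (b : R j k), δ a ≫ δ b = δ (trans a b)
  bij : ∀ {i j} (a : R i j) (W : X.Opens), W ≤ V j → Function.Bijective ((δ a).app W)
  cover : ∀ x : X, ∃ i, x ∈ V i
  inter : ∀ {i j} {x : X}, x ∈ V i → x ∈ V j → ∃ k, R i k ∧ R j k ∧ x ∈ V k
  cut : ∀ i (W : X.Opens), Function.Bijective (rs (T i) (inf_le_left : W ⊓ V i ≤ W))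

variable (D : Datum X)

theorem δ_app {i j k : D.J} (a : D.R i j) (b : D.R j k) {W : X.Opens} (t : Γ(D.T i, W)) :
    (D.δ b).app W ((D.δ a).app W t) = (D.δ (D.trans a b)).app W t :=
  congrArg (fun φ => φ.app W t) (D.δ_comp a b)

/-- The glued module as a submodule of the product. -/
def sub : QCohLib.LocSub (∏ᶜ D.T) where
  mem W a := ∀ i j (h : D.R i j), (D.δ h).app W ((Pi.π D.T i).app W a) = (Pi.π D.T j).app W a
  zero W i j h := by
    rw [map_zero, map_zero, map_zero]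
  add {W a b} ha hb i j h := by
    rw [map_add, map_add, map_add, ha i j h, hb i j h]
  smul {W} r {a} ha i j h := by
    rw [QCohLib.app_smul, QCohLib.app_smul, ha i j h]
    exact (QCohLib.app_smul _ W r a).symm
  res {W W'} hle {a} ha i j h := by
    show (D.δ h).app W' ((Pi.π D.T i).app W' (rs _ hle a)) = (Pi.π D.T j).app W' (rs _ hle a)
    rw [app_rs, app_rs, app_rs, ha i j h]
  local' {W} a ha i j h := by
    refine eq_of_locally _ _ fun x hx => ?_
    obtain ⟨W', hle, hxW', hm⟩ := ha x hx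
    refine ⟨W', hle, hxW', ?_⟩
    have := hm i j h
    rw [← app_rs, ← app_rs, ← app_rs]
    exact this

/-- The glued module. -/
def glue : X.Modules := (sub D).toModules

/-- Its projections. -/
def π (i : D.J) : glue D ⟶ D.T i := (sub D).ι ≫ Pi.π D.T i

theorem π_comp {i j : D.J} (h : D.R i j) : π D i ≫ D.δ h = π D j :=
  Scheme.Modules.hom_ext _ _ fun W => ConcreteCategory.hom_ext _ _ fun a => (sub D).ι_app_mem a i j h

theorem π_app {i j : D.J} (h : D.R i j) {W : X.Opens} (a : Γ(glue D, W)) :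
    (D.δ h).app W ((π D i).app W a) = (π D j).app W a :=
  congrArg (fun φ => φ.app W a) (π_comp D h)

theorem glue_ext {W : X.Opens} {a b : Γ(glue D, W)} (h : ∀ j, (π D j).app W a = (π D j).app W b) : a = b :=
  (sub D).ι_app_injective W ((DiscExtLib.pi_sections D.T W).1 (funext h))

variable {D}

theorem eq_of_pieces {j : D.J} {W : X.Opens} (a b : Γ(D.T j, W))
    (h : ∀ x ∈ W, x ∈ D.V j → ∃ (l : D.J) (hl : D.R j l), x ∈ D.V l ∧
      (D.δ hl).app _ (rs (D.T j) (inf_le_left : W ⊓ D.V l ≤ W) a) =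
        (D.δ hl).app _ (rs (D.T j) (inf_le_left : W ⊓ D.V l ≤ W) b)) : a = b := by
  refine (D.cut j W).1 (eq_of_locally _ _ fun x hx => ?_)
  obtain ⟨l, hl, hxl, e⟩ := h x hx.1 hx.2
  refine ⟨W ⊓ D.V l, le_inf inf_le_left (inf_le_right.trans (D.le hl)), ⟨hx.1, hxl⟩, ?_⟩
  rw [rs_rs, rs_rs]
  exact (D.bij hl _ inf_le_right).1 e

variable (D)

theorem π_injective (i : D.J) {W : X.Opens} (hW : W ≤ D.V i) : Function.Injective ((π D i).app W) := by
  refine fun a b hab => glue_ext D fun j => eq_of_pieces _ _ fun x hx hxj => ?_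
  obtain ⟨k, hik, hjk, hxk⟩ := D.inter (hW hx) hxj
  refine ⟨k, hjk, hxk, ?_⟩
  have h1 : ∀ c : Γ(glue D, W), (D.δ hjk).app _ (rs (D.T j) inf_le_left ((π D j).app W c)) =
      (D.δ hik).app _ (rs (D.T i) (inf_le_left : W ⊓ D.V k ≤ W) ((π D i).app W c)) := fun c => by
    rw [← app_rs (π D j), π_app, ← app_rs (π D i), π_app]
  rw [h1, h1, hab]

theorem π_surjective (i : D.J) {W : X.Opens} (hW : W ≤ D.V i) : Function.Surjective ((π D i).app W) := by
  intro t
  -- components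
  have hcomp : ∀ j, ∃ s : Γ(D.T j, W), ∀ k (hik : D.R i k) (hjk : D.R j k),
      (D.δ hjk).app _ (rs (D.T j) (inf_le_left : W ⊓ D.V k ≤ W) s) =
        (D.δ hik).app _ (rs (D.T i) (inf_le_left : W ⊓ D.V k ≤ W) t) := by
    intro j
    let κ := {k : D.J // D.R i k ∧ D.R j k}
    have hpc : ∀ k : κ, ∃ p : Γ(D.T j, W ⊓ D.V k.1), (D.δ k.2.2).app _ p =
        (D.δ k.2.1).app _ (rs (D.T i) inf_le_left t) := fun k => (D.bij k.2.2 _ inf_le_right).2 _
    choose p hp using hpc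
    have hkey : ∀ (k : κ) (m : D.J) (hkm : D.R k.1 m) (W' : X.Opens) (hle : W' ≤ W ⊓ D.V k.1),
        (D.δ (D.trans k.2.2 hkm)).app W' (rs (D.T j) hle (p k)) =
          (D.δ (D.trans k.2.1 hkm)).app W' (rs (D.T i) (hle.trans inf_le_left) t) := fun k m hkm W' hle => by
      rw [app_rs, ← δ_app D k.2.2 hkm, hp k, δ_app, ← app_rs, rs_rs]
    obtain ⟨g, hg⟩ := exists_glue (M := D.T j) (fun k : κ => W ⊓ D.V k.1)
      (fun k => le_inf inf_le_left (inf_le_right.trans (D.le k.2.2)))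
      (V := W ⊓ D.V j) (fun x hx => by
        obtain ⟨k, h1, h2, hk⟩ := D.inter (hW hx.1) hx.2
        exact ⟨⟨k, h1, h2⟩, hx.1, hk⟩) p (fun k l => by
        refine eq_of_pieces _ _ fun x hx hxj => ?_
        obtain ⟨m, hkm, hlm, hxm⟩ := D.inter hx.1.2 hx.2.2
        refine ⟨m, D.trans k.2.2 hkm, hxm, ?_⟩
        rw [rs_rs, rs_rs, hkey k m hkm, hkey l m hlm])
    obtain ⟨s, hs⟩ := (D.cut j W).2 g
    refine ⟨s, fun k hik hjk => ?_⟩
    have h1 : rs (D.T j) (inf_le_left : W ⊓ D.V k ≤ W) s = p ⟨k, hik, hjk⟩ := by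
      rw [← hg ⟨k, hik, hjk⟩, ← hs, rs_rs]
    rw [h1, hp ⟨k, hik, hjk⟩]
  choose s hs using hcomp
  obtain ⟨a, ha⟩ := (DiscExtLib.pi_sections D.T W).2 s
  have hmem : (sub D).mem W a := by
    intro j l hjl
    rw [show (Pi.π D.T j).app W a = s j from congrFun ha j, show (Pi.π D.T l).app W a = s l from congrFun ha l]
    refine eq_of_pieces _ _ fun x hx hxl => ?_
    obtain ⟨k, hik, hlk, hxk⟩ := D.inter (hW hx) hxl
    refine ⟨k, hlk, hxk, ?_⟩
    rw [← app_rs, δ_app, hs j k hik (D.trans hjl hlk), hs l k hik hlk]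
  refine ⟨(sub D).lift a hmem, (congrFun ha i).trans ?_⟩
  refine eq_of_pieces _ _ fun x hx _ => ?_
  obtain ⟨k, hik, -, hxk⟩ := D.inter (hW hx) (hW hx)
  exact ⟨k, hik, hxk, hs i k hik hik⟩

theorem π_bijective (i : D.J) {W : X.Opens} (hW : W ≤ D.V i) : Function.Bijective ((π D i).app W) :=
  ⟨π_injective D i hW, π_surjective D i hW⟩

variable {D}

theorem exists_lift {G : X.Modules} (ψ : ∀ i, G ⟶ D.T i) (hψ : ∀ i j (h : D.R i j), ψ i ≫ D.δ h = ψ j) :
    ∃ φ : G ⟶ glue D, ∀ i, φ ≫ π D i = ψ i := by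
  refine ⟨liftHom (sub D) (Pi.lift ψ) fun W a i j h => ?_, fun i => ?_⟩
  · show (((Pi.lift ψ ≫ Pi.π D.T i) ≫ D.δ h).app W a) = (Pi.lift ψ ≫ Pi.π D.T j).app W a
    rw [Pi.lift_π, Pi.lift_π, hψ i j h]
  · show liftHom (sub D) _ _ ≫ (sub D).ι ≫ Pi.π D.T i = ψ i
    rw [← Category.assoc, ι_liftHom, Pi.lift_π]

theorem hom_ext_of_cover {F G : X.Modules} (π' : ∀ i, F ⟶ D.T i)
    (hπ' : ∀ i (W : X.Opens), W ≤ D.V i → Function.Bijective ((π' i).app W))
    {φ φ' : G ⟶ F} (h : ∀ i, φ ≫ π' i = φ' ≫ π' i) : φ = φ' := by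
  refine Scheme.Modules.hom_ext _ _ fun W => ConcreteCategory.hom_ext _ _ fun a => ?_
  refine eq_of_locally _ _ fun x hx => ?_
  obtain ⟨i, hi⟩ := D.cover x
  refine ⟨W ⊓ D.V i, inf_le_left, ⟨hx, hi⟩, (hπ' i _ inf_le_right).1 ?_⟩
  rw [← app_rs, ← app_rs]
  exact congrArg (fun θ : G ⟶ D.T i => θ.app (W ⊓ D.V i) (rs G inf_le_left a)) (h i)

/-- Universal property of any module bijectively projected to the pieces. -/
theorem existsUnique_lift {F : X.Modules} (π' : ∀ i, F ⟶ D.T i)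
    (hπ' : ∀ i (W : X.Opens), W ≤ D.V i → Function.Bijective ((π' i).app W))
    (hc : ∀ i j (h : D.R i j), π' i ≫ D.δ h = π' j)
    {G : X.Modules} (ψ : ∀ i, G ⟶ D.T i) (hψ : ∀ i j (h : D.R i j), ψ i ≫ D.δ h = ψ j) :
    ∃! φ : G ⟶ F, ∀ i, φ ≫ π' i = ψ i := by
  obtain ⟨e, he⟩ := exists_lift π' hc
  haveI : IsIso e := by
    refine RpushLib.isIso_of_bijective_basis e (B := {U : X.Opens | ∃ i, U ≤ D.V i})
      (Opens.isBasis_iff_nbhd.2 fun {U x} hx => ?_) fun U ⟨i, hi⟩ => ?_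
    · obtain ⟨i, hi⟩ := D.cover x
      exact ⟨U ⊓ D.V i, ⟨i, inf_le_right⟩, ⟨hx, hi⟩, inf_le_left⟩
    · have h1 : (π D i).app U ∘ e.app U = (π' i).app U := funext fun a => congrArg (fun θ => θ.app U a) (he i)
      exact ((π_bijective D i hi).of_comp_iff' _).mp (by rw [h1]; exact hπ' i U hi)
  obtain ⟨φ, hφ⟩ := exists_lift ψ hψ
  have hinv : ∀ i, inv e ≫ π' i = π D i := fun i => by rw [← he i, IsIso.inv_hom_id_assoc]
  exact ⟨φ ≫ inv e, fun i => by rw [Category.assoc, hinv, hφ],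
    fun φ' h' => hom_ext_of_cover π' hπ' fun i => by rw [h' i, Category.assoc, hinv, hφ]⟩

theorem isIso_of_compat {F G : X.Modules} (π' : ∀ i, F ⟶ D.T i)
    (hπ' : ∀ i (W : X.Opens), W ≤ D.V i → Function.Bijective ((π' i).app W))
    (ψ : ∀ i, G ⟶ D.T i) (hψ : ∀ i (W : X.Opens), W ≤ D.V i → Function.Bijective ((ψ i).app W))
    (φ : G ⟶ F) (h : ∀ i, φ ≫ π' i = ψ i) : IsIso φ := by
  refine RpushLib.isIso_of_bijective_basis φ (B := {U : X.Opens | ∃ i, U ≤ D.V i})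
    (Opens.isBasis_iff_nbhd.2 fun {U x} hx => ?_) fun U ⟨i, hi⟩ => ?_
  · obtain ⟨i, hi⟩ := D.cover x
    exact ⟨U ⊓ D.V i, ⟨i, inf_le_right⟩, ⟨hx, hi⟩, inf_le_left⟩
  · have h1 : (π' i).app U ∘ φ.app U = (ψ i).app U := funext fun a => congrArg (fun θ => θ.app U a) (h i)
    exact ((hπ' i U hi).of_comp_iff' _).mp (by rw [h1]; exact hψ i U hi)

end ModGlueLib

end
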